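import Mathlib
import Groth.Agent.AdicEasyLib.Basic
import Groth.Agent.Hensel.Local

/-!
Morphisms out of the spectrum of an adically complete local ring, or of a finite algebra over a
complete Noetherian local ring, are compatible systems of morphisms out of the truncations.
-/

set_option autoImplicit false
set_option linter.style.haveILetI false
set_option backward.isDefEq.respectTransparency false
set_option backward.isDefEq.respectTransparency.types false
universe u
open CategoryTheory AlgebraicGeometry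

namespace Groth.Agent.FormalHomLib

variable {B : Type u} [CommRing B]

noncomputable abbrev q (I : Ideal B) (n : ℕ) : Spec (CommRingCat.of (B ⧸ I ^ n)) ⟶ Spec (CommRingCat.of B) :=
  Spec.map (CommRingCat.ofHom (Ideal.Quotient.mk (I ^ n)))

noncomputable abbrev tr (I : Ideal B) (n : ℕ) :
    Spec (CommRingCat.of (B ⧸ I ^ n)) ⟶ Spec (CommRingCat.of (B ⧸ I ^ (n + 1))) :=
  Spec.map (CommRingCat.ofHom (Ideal.Quotient.factor
    (Ideal.pow_le_pow_right (I := I) (Nat.le_succ n))))

theorem tr_q (I : Ideal B) (n : ℕ) : tr I n ≫ q I (n + 1) = q I n := by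
  rw [← Spec.map_comp, ← CommRingCat.ofHom_comp]; rfl

theorem specializes_closed [IsLocalRing B] (t : Spec (CommRingCat.of B)) :
    t ⤳ (IsLocalRing.closedPoint B : PrimeSpectrum B) :=
  (PrimeSpectrum.le_iff_specializes (t : PrimeSpectrum B) (IsLocalRing.closedPoint B)).1
    (IsLocalRing.le_maximalIdeal t.isPrime.ne_top)

theorem closed_mem_range [IsLocalRing B] {I : Ideal B} (hI : I ≤ IsLocalRing.maximalIdeal B)
    {n : ℕ} (hn : n ≠ 0) :
    ∃ p, q I n p = (IsLocalRing.closedPoint B : PrimeSpectrum B) := by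
  have : (IsLocalRing.closedPoint B : PrimeSpectrum B) ∈
      Set.range (PrimeSpectrum.comap (Ideal.Quotient.mk (I ^ n))) := by
    rw [range_comap_of_surjective _ _ Ideal.Quotient.mk_surjective, Ideal.mk_ker]
    exact (Ideal.pow_le_self hn).trans hI
  exact this

theorem mem_of_closed [IsLocalRing B] {I : Ideal B} {n : ℕ}
    (O : (Spec (CommRingCat.of (B ⧸ I ^ n))).Opens) {p₀ : Spec (CommRingCat.of (B ⧸ I ^ n))}
    (hp₀ : q I n p₀ = (IsLocalRing.closedPoint B : PrimeSpectrum B)) (h : p₀ ∈ O)
    (p : Spec (CommRingCat.of (B ⧸ I ^ n))) : p ∈ O := by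
  haveI : IsClosedImmersion (q I n) :=
    IsClosedImmersion.spec_of_surjective _ Ideal.Quotient.mk_surjective
  refine ((q I n).isEmbedding.isInducing.specializes_iff.1 ?_).mem_open O.2 h
  rw [hp₀]
  exact specializes_closed _

/-- Morphisms from the spectrum of a local ring, complete for an ideal contained in the maximal
ideal, are compatible systems of morphisms from the truncations. -/
theorem local_hom_ext [IsLocalRing B] {I : Ideal B} (hI : I ≤ IsLocalRing.maximalIdeal B)
    [IsHausdorff I B] {X : Scheme.{u}} (f g : Spec (CommRingCat.of B) ⟶ X)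
    (h : ∀ n, q I n ≫ f = q I n ≫ g) : f = g := by
  obtain ⟨W, hW, hxW, -⟩ :=
    exists_isAffineOpen_mem_and_subset (x := f (IsLocalRing.closedPoint B)) (U := ⊤) trivial
  have hgx : g (IsLocalRing.closedPoint B) ∈ W := by
    obtain ⟨p, hp⟩ := closed_mem_range hI one_ne_zero
    rw [← hp, ← Scheme.Hom.comp_apply, ← h 1, Scheme.Hom.comp_apply, hp]
    exact hxW
  have hr : ∀ k : Spec (CommRingCat.of B) ⟶ X, k (IsLocalRing.closedPoint B) ∈ W →
      Set.range k ⊆ Set.range hW.fromSpec := fun k hk => by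
    rw [hW.range_fromSpec]
    rintro _ ⟨t, rfl⟩
    exact (specializes_closed t).mem_open (k ⁻¹ᵁ W).2 hk
  obtain ⟨a, ha⟩ := Spec.map_surjective (IsOpenImmersion.lift hW.fromSpec f (hr f hxW))
  obtain ⟨b, hb⟩ := Spec.map_surjective (IsOpenImmersion.lift hW.fromSpec g (hr g hgx))
  have ha' : Spec.map a ≫ hW.fromSpec = f := by rw [ha, IsOpenImmersion.lift_fac]
  have hb' : Spec.map b ≫ hW.fromSpec = g := by rw [hb, IsOpenImmersion.lift_fac]
  have hab : ∀ n, a ≫ CommRingCat.ofHom (Ideal.Quotient.mk (I ^ n)) =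
      b ≫ CommRingCat.ofHom (Ideal.Quotient.mk (I ^ n)) := fun n =>
    Spec.map_injective ((cancel_mono hW.fromSpec).1 (by
      rw [Spec.map_comp, Spec.map_comp, Category.assoc, Category.assoc, ha', hb']
      exact h n))
  rw [← ha', ← hb']
  congr 2
  refine CommRingCat.hom_ext (RingHom.ext fun x => ?_)
  refine IsHausdorff.eq_iff_smodEq (I := I) (M := B) |>.2 fun n => ?_
  rw [smul_eq_mul, Ideal.mul_top, SModEq.sub_mem, ← Ideal.Quotient.eq]
  exact congrArg (fun k => k.hom x) (hab n)

theorem local_hom_lift [IsLocalRing B] {I : Ideal B} (hI : I ≤ IsLocalRing.maximalIdeal B)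
    [IsAdicComplete I B] {X : Scheme.{u}} (u : ∀ n, Spec (CommRingCat.of (B ⧸ I ^ n)) ⟶ X)
    (hu : ∀ n, tr I n ≫ u (n + 1) = u n) :
    ∃ f : Spec (CommRingCat.of B) ⟶ X, ∀ n, q I n ≫ f = u n := by
  choose p hp using fun n => closed_mem_range (B := B) hI (n := n + 1) n.succ_ne_zero
  obtain ⟨W, hW, hxW, -⟩ := exists_isAffineOpen_mem_and_subset (x := u 1 (p 0)) (U := ⊤) trivial
  have hp' : ∀ n, u (n + 1) (p n) ∈ W := by
    intro n
    induction n with
    | zero => exact hxW
    | succ n ih =>
      have : p (n + 1) = tr I (n + 1) (p n) := by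
        haveI : IsClosedImmersion (q I (n + 1 + 1)) :=
          IsClosedImmersion.spec_of_surjective _ Ideal.Quotient.mk_surjective
        apply (q I (n + 1 + 1)).isEmbedding.injective
        rw [hp, ← Scheme.Hom.comp_apply, tr_q, hp]
      rw [this, ← Scheme.Hom.comp_apply, hu]
      exact ih
  have hr : ∀ n, Set.range (u n) ⊆ Set.range hW.fromSpec := by
    intro n
    rw [hW.range_fromSpec]
    rintro _ ⟨t, rfl⟩
    rcases n with _ | n
    · exfalso
      have : Subsingleton (B ⧸ I ^ 0) := Ideal.Quotient.subsingleton_iff.2 (by simp)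
      exact t.isPrime.ne_top ((Ideal.eq_top_iff_one _).2 (by
        rw [Subsingleton.elim (1 : B ⧸ I ^ 0) 0]; exact zero_mem _))
    · exact mem_of_closed (u (n + 1) ⁻¹ᵁ W) (hp n) (hp' n) t
  choose ψ hψ using fun n => Spec.map_surjective (IsOpenImmersion.lift hW.fromSpec (u n) (hr n))
  have hψ' : ∀ n, Spec.map (ψ n) ≫ hW.fromSpec = u n := fun n => by
    rw [hψ, IsOpenImmersion.lift_fac]
  have hfac : ∀ n, ψ (n + 1) ≫ CommRingCat.ofHom (Ideal.Quotient.factor
      (Ideal.pow_le_pow_right (I := I) (Nat.le_succ n))) = ψ n := fun n =>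
    Spec.map_injective ((cancel_mono hW.fromSpec).1 (by
      rw [Spec.map_comp, Category.assoc, hψ', hψ', hu n]))
  have hcompat : ∀ {a b : ℕ} (hle : a ≤ b),
      (Ideal.Quotient.factorPow I hle).comp (ψ b).hom = (ψ a).hom := fun {a b} hle => by
    induction hle with
    | refl => exact RingHom.ext fun x => by simp
    | @step b hab ih =>
      refine RingHom.ext fun x => ?_
      have h1 := congrArg (fun k => k.hom x) (hfac b)
      rw [← ih]
      simp only [RingHom.comp_apply]
      rw [← h1]
      obtain ⟨y, hy⟩ := Ideal.Quotient.mk_surjective ((ψ (b + 1)).hom x)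
      simp only [CommRingCat.hom_comp, RingHom.comp_apply, CommRingCat.hom_ofHom]
      rw [← hy]
      rfl
  let φ : Γ(X, W) ⟶ CommRingCat.of B :=
    CommRingCat.ofHom (IsAdicComplete.liftRingHom I (fun n => (ψ n).hom) hcompat)
  refine ⟨Spec.map φ ≫ hW.fromSpec, fun n => ?_⟩
  rw [← Category.assoc, ← Spec.map_comp,
    show φ ≫ CommRingCat.ofHom (Ideal.Quotient.mk _) = ψ n from
      CommRingCat.hom_ext (IsAdicComplete.mk_comp_liftRingHom I _ hcompat n), hψ']

/-- The ideal generated by `m ^ n` in `B` maps to the one in an algebra over `B`. -/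
theorem pow_map_le {A C : Type u} [CommRing A] [CommRing C] [Algebra A B] (g : B →+* C)
    (m : Ideal A) (n : ℕ) :
    (m.map (algebraMap A B)) ^ n ≤ ((m.map (g.comp (algebraMap A B))) ^ n).comap g := by
  rw [← Ideal.map_le_iff_le_comap, Ideal.map_pow, Ideal.map_map]

/-- Finite algebras over complete Noetherian local rings: product of complete local rings. -/
theorem exists_pi_complete (A : Type u) [CommRing A] [IsLocalRing A] [IsNoetherianRing A]
    [IsAdicComplete (IsLocalRing.maximalIdeal A) A] (B : Type u) [CommRing B] [Algebra A B]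
    [Module.Finite A B] :
    ∃ (ι : Type u) (_ : Fintype ι) (C : ι → Type u) (_ : ∀ i, CommRing (C i))
      (e : B ≃+* (∀ i, C i)), ∀ i, IsLocalRing (C i) ∧
      IsAdicComplete ((IsLocalRing.maximalIdeal A).map
        (((Pi.evalRingHom C i).comp e.toRingHom).comp (algebraMap A B))) (C i) ∧
      ∀ [IsLocalRing (C i)], (IsLocalRing.maximalIdeal A).map
        (((Pi.evalRingHom C i).comp e.toRingHom).comp (algebraMap A B)) ≤
          IsLocalRing.maximalIdeal (C i) := by
  haveI : HenselianLocalRing A := Groth.Agent.Hensel.henselianRing_maximalIdeal_iff.1 inferInstance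
  obtain ⟨ι, hι, C, hC, hloc, ⟨e⟩⟩ := Groth.Agent.Hensel.exists_pi_local_of_henselian A B
  refine ⟨ι, hι, C, hC, e, fun i => ⟨hloc i, ?_, ?_⟩⟩
  · let g : B →+* C i := (Pi.evalRingHom C i).comp e.toRingHom
    letI : Algebra A (C i) := (g.comp (algebraMap A B)).toAlgebra
    haveI : Module.Finite A (C i) := by
      refine Module.Finite.of_surjective
        ({ toFun := g, map_add' := map_add g, map_smul' := fun a b => by
            simp [Algebra.smul_def, RingHom.algebraMap_toAlgebra] } : B →ₗ[A] C i) ?_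
      classical
      intro c
      exact ⟨e.symm (Pi.single i c), by simp [g]⟩
    exact (IsAdicComplete.map_algebraMap_iff (R := A) (S := C i) (M := C i)
      (IsLocalRing.maximalIdeal A)).2
      (Groth.Agent.AdicEasyLib.isAdicComplete_of_finite _ (C i))
  · intro _
    letI : Algebra A (C i) :=
      (((Pi.evalRingHom C i).comp e.toRingHom).comp (algebraMap A B)).toAlgebra
    haveI : Module.Finite A (C i) := by
      refine Module.Finite.of_surjective
        ({ toFun := (Pi.evalRingHom C i).comp e.toRingHom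
           map_add' := map_add _
           map_smul' := fun a b => by
            simp [Algebra.smul_def, RingHom.algebraMap_toAlgebra] } : B →ₗ[A] C i) ?_
      classical
      intro c
      exact ⟨e.symm (Pi.single i c), by simp⟩
    exact IsLocalRing.le_maximalIdeal (fun h => by
      have := Groth.Agent.Hensel.map_le_jacobson_of_isIntegral (B := C i)
        (IsLocalRing.jacobson_eq_maximalIdeal (⊥ : Ideal A) bot_ne_top).ge
      rw [show (IsLocalRing.maximalIdeal A).map (algebraMap A (C i)) = ⊤ from h, top_le_iff,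
        Ideal.jacobson_eq_top_iff] at this
      exact bot_ne_top this)

section finite

variable (A : Type u) [CommRing A] [IsLocalRing A] [IsNoetherianRing A]
  [IsAdicComplete (IsLocalRing.maximalIdeal A) A] (B : Type u) [CommRing B] [Algebra A B]
  [Module.Finite A B]

theorem finite_hom_ext {X : Scheme.{u}} (f g : Spec (CommRingCat.of B) ⟶ X)
    (h : ∀ n, q ((IsLocalRing.maximalIdeal A).map (algebraMap A B)) n ≫ f =
      q ((IsLocalRing.maximalIdeal A).map (algebraMap A B)) n ≫ g) : f = g := by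
  obtain ⟨ι, _, C, _, e, hC⟩ := exists_pi_complete A B
  let ψ := CommRingCat.ofHom e.toRingHom
  haveI : IsIso ψ := (RingEquiv.toCommRingCatIso e).isIso_hom
  rw [← cancel_epi (Spec.map ψ), ← cancel_epi (sigmaSpec fun i => CommRingCat.of (C i))]
  refine Limits.Sigma.hom_ext _ _ fun i => ?_
  rw [← Category.assoc, ← Category.assoc, ← Category.assoc, ι_sigmaSpec, ← Spec.map_comp]
  obtain ⟨hl, hc, hle⟩ := hC i
  refine local_hom_ext (hle) _ _ fun n => ?_
  let ρ : B →+* C i := (Pi.evalRingHom C i).comp e.toRingHom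
  let ρn := Ideal.quotientMap _ ρ (pow_map_le (B := B) ρ (IsLocalRing.maximalIdeal A) n)
  have key : CommRingCat.ofHom e.toRingHom ≫ CommRingCat.ofHom (Pi.evalRingHom C i) ≫
      CommRingCat.ofHom (Ideal.Quotient.mk _) =
      CommRingCat.ofHom (Ideal.Quotient.mk _) ≫ CommRingCat.ofHom ρn := by
    ext x; rfl
  simp only [q, ψ, ← Category.assoc, ← Spec.map_comp]
  simp only [Category.assoc]
  rw [key, Spec.map_comp, Category.assoc, Category.assoc, h n]

theorem finite_hom_lift {X : Scheme.{u}}
    (u : ∀ n, Spec (CommRingCat.of (B ⧸ ((IsLocalRing.maximalIdeal A).map (algebraMap A B)) ^ n)) ⟶ X)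
    (hu : ∀ n, tr ((IsLocalRing.maximalIdeal A).map (algebraMap A B)) n ≫ u (n + 1) = u n) :
    ∃ f : Spec (CommRingCat.of B) ⟶ X,
      ∀ n, q ((IsLocalRing.maximalIdeal A).map (algebraMap A B)) n ≫ f = u n := by
  obtain ⟨ι, _, C, _, e, hC⟩ := exists_pi_complete A B
  let ρ : ∀ i, B →+* C i := fun i => (Pi.evalRingHom C i).comp e.toRingHom
  let J : ∀ i, Ideal (C i) := fun i =>
    (IsLocalRing.maximalIdeal A).map ((ρ i).comp (algebraMap A B))
  let ρn := fun i n => Ideal.quotientMap _ (ρ i)
    (pow_map_le (B := B) (ρ i) (IsLocalRing.maximalIdeal A) n)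
  have : ∀ i, ∃ fi : Spec (CommRingCat.of (C i)) ⟶ X,
      ∀ n, q (J i) n ≫ fi = Spec.map (CommRingCat.ofHom (ρn i n)) ≫ u n := by
    intro i
    obtain ⟨hl, hc, hle⟩ := hC i
    refine local_hom_lift hle _ fun n => ?_
    conv_rhs => rw [← hu n, ← Category.assoc]
    rw [← Category.assoc]
    congr 1
    simp only [tr, ← Spec.map_comp, ← CommRingCat.ofHom_comp]
    congr 2
    refine Ideal.Quotient.ringHom_ext (RingHom.ext fun x => ?_)
    rfl
  choose fi hfi using this
  let ψ := CommRingCat.ofHom e.toRingHom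
  haveI : IsIso ψ := (RingEquiv.toCommRingCatIso e).isIso_hom
  refine ⟨inv (Spec.map ψ) ≫ inv (sigmaSpec fun i => CommRingCat.of (C i)) ≫ Limits.Sigma.desc fi,
    fun n => ?_⟩
  set f := inv (Spec.map ψ) ≫ inv (sigmaSpec fun i => CommRingCat.of (C i)) ≫
    Limits.Sigma.desc fi with hf
  have hfρ : ∀ i, Spec.map (CommRingCat.ofHom (ρ i)) ≫ f = fi i := fun i => by
    have h1 : Spec.map (CommRingCat.ofHom (ρ i)) =
        Limits.Sigma.ι (fun i => Spec (CommRingCat.of (C i))) i ≫
          sigmaSpec (fun i => CommRingCat.of (C i)) ≫ Spec.map ψ := by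
      rw [ι_sigmaSpec_assoc, ← Spec.map_comp]; rfl
    rw [h1, hf, Category.assoc, Category.assoc, IsIso.hom_inv_id_assoc,
      IsIso.hom_inv_id_assoc, Limits.Sigma.ι_desc]
  clear_value f
  let I := (IsLocalRing.maximalIdeal A).map (algebraMap A B)
  let Φ : B ⧸ I ^ n →+* (∀ i, C i ⧸ J i ^ n) := RingHom.pi fun i => ρn i n
  have hΦ : Function.Bijective Φ := by
    classical
    refine ⟨(injective_iff_map_eq_zero Φ).2 fun z hz => ?_, fun z => ?_⟩
    · obtain ⟨x, rfl⟩ := Ideal.Quotient.mk_surjective z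
      rw [Ideal.Quotient.eq_zero_iff_mem]
      have hx : ∀ i, ρ i x ∈ (I ^ n).map (ρ i) := fun i => by
        rw [Ideal.map_pow, Ideal.map_map]
        exact Ideal.Quotient.eq_zero_iff_mem.1 (congrFun hz i)
      have hx' : ∀ i, ∃ y ∈ I ^ n, ρ i y = ρ i x := fun i =>
        (Ideal.mem_map_iff_of_surjective (ρ i) (fun c => ⟨e.symm (Pi.single i c), by
          simp [ρ]⟩)).1 (hx i)
      choose y hy hyx using hx'
      have : x = ∑ i, e.symm (Pi.single i 1) * y i := by
        apply e.injective
        funext j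
        rw [map_sum, Finset.sum_apply, Finset.sum_eq_single j (fun i _ h => by
          simp [h.symm]) (by simp)]
        simpa [ρ] using (hyx j).symm
      rw [this]
      exact sum_mem fun i _ => Ideal.mul_mem_left _ _ (hy i)
    · choose c hc using fun i => Ideal.Quotient.mk_surjective (z i)
      exact ⟨Ideal.Quotient.mk _ (e.symm c), funext fun i => by
        show Ideal.Quotient.mk (J i ^ n) (ρ i (e.symm c)) = z i
        simp [ρ, hc]⟩
  haveI : IsIso (CommRingCat.ofHom Φ) :=
    ((RingEquiv.ofBijective Φ hΦ).toCommRingCatIso).isIso_hom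
  rw [← cancel_epi (Spec.map (CommRingCat.ofHom Φ)),
    ← cancel_epi (sigmaSpec fun i => CommRingCat.of (C i ⧸ J i ^ n))]
  refine Limits.Sigma.hom_ext _ _ fun i => ?_
  have h3 : ∀ k : Spec (CommRingCat.of (B ⧸ I ^ n)) ⟶ X,
      Limits.Sigma.ι (fun i => Spec (CommRingCat.of (C i ⧸ J i ^ n))) i ≫
        sigmaSpec (fun i => CommRingCat.of (C i ⧸ J i ^ n)) ≫ Spec.map (CommRingCat.ofHom Φ) ≫ k =
      Spec.map (CommRingCat.ofHom (ρn i n)) ≫ k := fun k => by
    rw [ι_sigmaSpec_assoc, ← Spec.map_comp_assoc]; rfl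
  rw [h3, h3, ← hfi i n, ← Category.assoc, ← Spec.map_comp, ← hfρ i, ← Category.assoc,
    ← Spec.map_comp]
  rfl

end finite

end Groth.Agent.FormalHomLib
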