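import Groth.Agent.SmoothHomLift.Main
import Groth.Agent.AvgPoint.Lift
import Groth.Agent.FixedSmooth.Normalizer
import Groth.Agent.FormalHomLib.FiniteLim
/-!
Homomorphisms from a finite group of multiplicative type over a complete Noetherian local ring into a smooth group,
and their conjugacy, from the closed fibre.
-/

set_option autoImplicit false
set_option backward.isDefEq.respectTransparency false
set_option backward.isDefEq.respectTransparency.types false
set_option linter.style.haveILetI false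
set_option linter.unusedSectionVars false
set_option maxHeartbeats 800000

universe u

open CategoryTheory CategoryTheory.Limits MonoidalCategory CartesianMonoidalCategory MonObj GrpObj AlgebraicGeometry
open TensorProduct
open scoped TensorProduct

noncomputable section

namespace Groth.Agent.FormalHomLib

open SmoothHomLift

/-- The point over a reduction given by a homomorphism of the reductions. -/
theorem exists_isH_of_hom {R A : Type u} [CommRing R] [CommRing A] [HopfAlgebra R A]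
    {G : Over (Spec (CommRingCat.of R))} [GrpObj G] {S₀ : Type u} [CommRing S₀] [Algebra R S₀]
    (g₀ : Red.bc (bq R S₀) ((Spec (CommRingCat.of A)).asOver (Spec (CommRingCat.of R))) ⟶ Red.bc (bq R S₀) G)
    [IsMonHom g₀] :
    ∃ f₀ : pt R (S₀ ⊗[R] A) ⟶ G, IsH S₀ f₀ ∧
      ∀ F : (Spec (CommRingCat.of A)).asOver (Spec (CommRingCat.of R)) ⟶ G,
        push (Algebra.TensorProduct.includeRight : A →ₐ[R] S₀ ⊗[R] A) F = f₀ →
          (Over.pullback (bq R S₀)).map F = g₀ := by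
  let H := (Spec (CommRingCat.of A)).asOver (Spec (CommRingCat.of R))
  let u := pe A H (incl (R := R) (A := A) (S₀ := S₀))
  let f₀ := (pe A G).symm (u ≫ g₀)
  have hpe : pe A G f₀ = u ≫ g₀ := MulEquiv.apply_symm_apply _ _
  refine ⟨f₀, ?_, fun F hF => ?_⟩
  · refine (pe (A ⊗[R] A) G).injective ?_
    rw [map_mul, pe_sm, pe_sm, pe_sm, hpe, ← Category.assoc, ← Category.assoc, ← Category.assoc, ← MonObj.mul_comp]
    congr 1
    rw [← pe_sm, ← pe_sm, ← pe_sm, ← map_mul]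
    congr 1
    simp only [incl]
    have e : ∀ φ : A →ₐ[R] A ⊗[R] A, push (sm S₀ φ) (tmH (Algebra.TensorProduct.includeRight : A →ₐ[R] S₀ ⊗[R] A)) =
        push (Algebra.TensorProduct.includeRight : A ⊗[R] A →ₐ[R] S₀ ⊗[R] (A ⊗[R] A)) (tmH φ) := fun φ => by
      show tm _ ≫ tm _ = tm _ ≫ tm _
      rw [← tm_comp, ← tm_comp]
      congr 1
    rw [e, e, e, ← map_mul, tm_comul]
  · haveI : IsIso u := isIso_pe_incl
    rw [← cancel_epi u, ← pe_comp, ← hpe]
    congr 1

variable {A : Type u} [CommRing A] [IsLocalRing A]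

/-- The reduction map between the levels. -/
def trA (k : ℕ) : A ⧸ (IsLocalRing.maximalIdeal A) ^ (k + 1) →ₐ[A] A ⧸ (IsLocalRing.maximalIdeal A) ^ k := Ideal.Quotient.factorₐ A (Ideal.pow_le_pow_right k.le_succ)

theorem trA_surjective (k : ℕ) : Function.Surjective (trA (A := A) k) := fun x => by
  obtain ⟨a, rfl⟩ := Ideal.Quotient.mk_surjective x
  exact ⟨Ideal.Quotient.mk _ a, rfl⟩

theorem ker_trA_sq (k : ℕ) : RingHom.ker (trA (A := A) (k + 1)) ^ 2 = ⊥ := by
  have : RingHom.ker (trA (A := A) (k + 1)) ≤ ((IsLocalRing.maximalIdeal A) ^ (k + 1)).map (Ideal.Quotient.mk ((IsLocalRing.maximalIdeal A) ^ (k + 1 + 1))) := fun x hx => by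
    obtain ⟨a, rfl⟩ := Ideal.Quotient.mk_surjective x
    exact Ideal.mem_map_of_mem _ (Ideal.Quotient.eq_zero_iff_mem.1 hx)
  refine eq_bot_iff.2 ((Ideal.pow_right_mono this 2).trans ?_)
  rw [← Ideal.map_pow, Ideal.map_le_iff_le_comap, ← RingHom.ker_eq_comap_bot, Ideal.mk_ker, ← pow_mul]
  exact Ideal.pow_le_pow_right (by omega)

variable [IsNoetherianRing A] [IsAdicComplete (IsLocalRing.maximalIdeal A) A]

section Points

variable {C : Type u} [CommRing C] [Algebra A C]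

/-- The truncation of the coordinate ring as an extension of scalars. -/
def cutC (C : Type u) [CommRing C] [Algebra A C] (n : ℕ) : (A ⧸ (IsLocalRing.maximalIdeal A) ^ n) ⊗[A] C →ₐ[A] C ⧸ ((IsLocalRing.maximalIdeal A).map (algebraMap A C)) ^ n :=
  Algebra.TensorProduct.lift
    (Ideal.Quotient.liftₐ ((IsLocalRing.maximalIdeal A) ^ n) (Algebra.ofId A _) fun a ha => by
      show algebraMap A (C ⧸ ((IsLocalRing.maximalIdeal A).map (algebraMap A C)) ^ n) a = 0
      rw [IsScalarTower.algebraMap_apply A C, Ideal.Quotient.algebraMap_eq, Ideal.Quotient.eq_zero_iff_mem,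
        ← Ideal.map_pow]
      exact Ideal.mem_map_of_mem _ ha)
    (Ideal.Quotient.mkₐ A _) fun _ _ => Commute.all _ _

/-- The inverse of `cutC`. -/
def extC (C : Type u) [CommRing C] [Algebra A C] (n : ℕ) : C ⧸ ((IsLocalRing.maximalIdeal A).map (algebraMap A C)) ^ n →ₐ[A] (A ⧸ (IsLocalRing.maximalIdeal A) ^ n) ⊗[A] C :=
  Ideal.Quotient.liftₐ _ Algebra.TensorProduct.includeRight fun c hc => by
    have hle : ((IsLocalRing.maximalIdeal A).map (algebraMap A C)) ^ n ≤ RingHom.ker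
        (Algebra.TensorProduct.includeRight : C →ₐ[A] (A ⧸ (IsLocalRing.maximalIdeal A) ^ n) ⊗[A] C).toRingHom := by
      rw [← Ideal.map_pow, Ideal.map_le_iff_le_comap]
      intro a ha
      show (1 : A ⧸ (IsLocalRing.maximalIdeal A) ^ n) ⊗ₜ[A] algebraMap A C a = 0
      rw [Algebra.algebraMap_eq_smul_one, ← TensorProduct.smul_tmul, ← Algebra.algebraMap_eq_smul_one,
        show algebraMap A (A ⧸ (IsLocalRing.maximalIdeal A) ^ n) a = 0 from Ideal.Quotient.eq_zero_iff_mem.2 ha, TensorProduct.zero_tmul]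
    exact hle hc

theorem cutC_includeRight (n : ℕ) :
    (cutC C n).comp (Algebra.TensorProduct.includeRight : C →ₐ[A] (A ⧸ (IsLocalRing.maximalIdeal A) ^ n) ⊗[A] C) = Ideal.Quotient.mkₐ A (((IsLocalRing.maximalIdeal A).map (algebraMap A C)) ^ n) :=
  AlgHom.ext fun c => by simp [cutC]

theorem extC_mk (n : ℕ) :
    (extC C n).comp (Ideal.Quotient.mkₐ A _) = (Algebra.TensorProduct.includeRight : C →ₐ[A] (A ⧸ (IsLocalRing.maximalIdeal A) ^ n) ⊗[A] C) :=
  AlgHom.ext fun c => rfl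

theorem extC_cutC (n : ℕ) :
    (extC (A := A) C n).comp (cutC (A := A) C n) = AlgHom.id A ((A ⧸ (IsLocalRing.maximalIdeal A) ^ n) ⊗[A] C) := by
  refine Algebra.TensorProduct.ext' fun a c => ?_
  obtain ⟨a, rfl⟩ := Ideal.Quotient.mk_surjective a
  show extC C n (cutC C n (Ideal.Quotient.mk _ a ⊗ₜ[A] c)) = Ideal.Quotient.mk _ a ⊗ₜ[A] c
  simp only [cutC, Algebra.TensorProduct.lift_tmul, map_mul]
  show extC C n (algebraMap A _ a) * ((1 : A ⧸ (IsLocalRing.maximalIdeal A) ^ n) ⊗ₜ[A] c) = _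
  rw [AlgHom.commutes, Algebra.TensorProduct.algebraMap_apply, Algebra.TensorProduct.tmul_mul_tmul,
    _root_.mul_one, _root_.one_mul]
  rfl

variable [Module.Finite A C] {X : Over (Spec (CommRingCat.of A))} [GrpObj X]

/-- Points with values in a finite algebra are determined by their reductions. -/
theorem pts_ext {x y : pt A C ⟶ X}
    (h : ∀ n, push (Algebra.TensorProduct.includeRight : C →ₐ[A] (A ⧸ (IsLocalRing.maximalIdeal A) ^ n) ⊗[A] C) x =
      push (Algebra.TensorProduct.includeRight : C →ₐ[A] (A ⧸ (IsLocalRing.maximalIdeal A) ^ n) ⊗[A] C) y) : x = y := by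
  refine Over.OverMorphism.ext (finite_hom_ext A C x.left y.left fun n => ?_)
  have e := congrArg (push (cutC C n)) (h n)
  rw [push_push, push_push, cutC_includeRight] at e
  exact congrArg CommaMorphism.left e

/-- Compatible points come from a point. -/
theorem exists_pts (g : ∀ n, pt A ((A ⧸ (IsLocalRing.maximalIdeal A) ^ n) ⊗[A] C) ⟶ X) (hg : ∀ n, push (qm (trA n) C) (g (n + 1)) = g n) :
    ∃ x : pt A C ⟶ X,
      ∀ n, push (Algebra.TensorProduct.includeRight : C →ₐ[A] (A ⧸ (IsLocalRing.maximalIdeal A) ^ n) ⊗[A] C) x = g n := by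
  let I := (IsLocalRing.maximalIdeal A).map (algebraMap A C)
  let u : ∀ n, pt A (C ⧸ I ^ n) ⟶ X := fun n => push (cutC C n) (g n)
  let t : ∀ n, C ⧸ I ^ (n + 1) →ₐ[A] C ⧸ I ^ n := fun n => Ideal.Quotient.factorₐ A (Ideal.pow_le_pow_right n.le_succ)
  have hc : ∀ n, (t n).comp (cutC (A := A) C (n + 1)) = (cutC (A := A) C n).comp (qm (trA (A := A) n) C) := fun n => by
    refine Algebra.TensorProduct.ext' fun a c => ?_
    obtain ⟨a, rfl⟩ := Ideal.Quotient.mk_surjective a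
    simp only [cutC, trA, AlgHom.comp_apply, Algebra.TensorProduct.map_tmul, Algebra.TensorProduct.lift_tmul]
    rfl
  have hu : ∀ n, tr I n ≫ (u (n + 1)).left = (u n).left := fun n => by
    have e : push (t n) (u (n + 1)) = u n := by
      show push (t n) (push _ _) = push _ _
      rw [push_push, hc, ← push_push, hg]
    exact congrArg CommaMorphism.left e
  obtain ⟨F, hF⟩ := finite_hom_lift A C (fun n => (u n).left) hu
  have hFw : F ≫ X.hom = Spec.map (CommRingCat.ofHom (algebraMap A C)) := finite_hom_ext A C _ _ fun n => by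
    rw [reassoc_of% (hF n), Over.w (u n)]
    exact (Over.w (tm (Ideal.Quotient.mkₐ A (I ^ n)))).symm
  refine ⟨Over.homMk F hFw, fun n => ?_⟩
  rw [← extC_mk, ← push_push]
  have e : push (Ideal.Quotient.mkₐ A (I ^ n)) (Over.homMk F hFw : pt A C ⟶ X) = u n := Over.OverMorphism.ext (hF n)
  rw [e]
  show push _ (push _ _) = _
  rw [push_push, extC_cutC, push_id]

end Points

variable {B : Type u} [CommRing B] [HopfAlgebra A B] [Module.Finite A B]
  {G : Over (Spec (CommRingCat.of A))} [GrpObj G]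

local notation "M" => AlgebraicGeometry.Scheme.asOver (Spec (CommRingCat.of B)) (Spec (CommRingCat.of A))

/-- A homomorphism of the closed fibres lifts. -/
theorem exists_hom [Smooth G.hom] (hB : SGA3b.IsMultType A B)
    (g₀ : Red.bc (bq A (A ⧸ (IsLocalRing.maximalIdeal A))) M ⟶ Red.bc (bq A (A ⧸ (IsLocalRing.maximalIdeal A))) G) [IsMonHom g₀] :
    ∃ f : M ⟶ G, IsMonHom f ∧ (Over.pullback (bq A (A ⧸ (IsLocalRing.maximalIdeal A)))).map f = g₀ := by
  obtain ⟨l, h1, -, hr⟩ := MultType.exists_integral hB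
  obtain ⟨f₀, hf₀, hres⟩ := exists_isH_of_hom g₀
  let π₁ : A ⧸ (IsLocalRing.maximalIdeal A) ^ 1 →ₐ[A] A ⧸ (IsLocalRing.maximalIdeal A) := Ideal.Quotient.factorₐ A (Ideal.pow_le_self one_ne_zero)
  have hπ₁ : Function.Surjective π₁ := fun x => by
    obtain ⟨a, rfl⟩ := Ideal.Quotient.mk_surjective x
    exact ⟨Ideal.Quotient.mk _ a, rfl⟩
  have hk₁ : RingHom.ker π₁ ^ (0 + 1) = ⊥ := by
    refine (pow_one _).trans (eq_bot_iff.2 ?_)
    intro x hx
    obtain ⟨a, rfl⟩ := Ideal.Quotient.mk_surjective x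
    refine Ideal.Quotient.eq_zero_iff_mem.2 ?_
    rw [pow_one]
    exact Ideal.Quotient.eq_zero_iff_mem.1 hx
  obtain ⟨c₁, hc₁, hc₁e⟩ := exists_isH_lift l h1 hr 0 (A ⧸ (IsLocalRing.maximalIdeal A) ^ 1) (A ⧸ (IsLocalRing.maximalIdeal A)) π₁ hπ₁ hk₁ f₀ hf₀
  have step : ∀ k (x : pt A ((A ⧸ (IsLocalRing.maximalIdeal A) ^ (k + 1)) ⊗[A] B) ⟶ G), IsH (A ⧸ (IsLocalRing.maximalIdeal A) ^ (k + 1)) x →
      ∃ y : pt A ((A ⧸ (IsLocalRing.maximalIdeal A) ^ (k + 1 + 1)) ⊗[A] B) ⟶ G, IsH (A ⧸ (IsLocalRing.maximalIdeal A) ^ (k + 1 + 1)) y ∧ push (qm (trA (k + 1)) B) y = x :=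
    fun k x hx => exists_isH_lift l h1 hr 1 _ _ (trA (k + 1)) (trA_surjective _) (ker_trA_sq k) x hx
  choose nx hnx hnxe using step
  let F : ∀ k, {x : pt A ((A ⧸ (IsLocalRing.maximalIdeal A) ^ (k + 1)) ⊗[A] B) ⟶ G // IsH (A ⧸ (IsLocalRing.maximalIdeal A) ^ (k + 1)) x} :=
    fun k => Nat.rec ⟨c₁, hc₁⟩ (fun j p => ⟨nx j p.1 p.2, hnx j p.1 p.2⟩) k
  have hF : ∀ k, push (qm (trA (k + 1)) B) (F (k + 1)).1 = (F k).1 := fun k => hnxe k _ _
  let g : ∀ n, pt A ((A ⧸ (IsLocalRing.maximalIdeal A) ^ n) ⊗[A] B) ⟶ G := fun n => push (qm (trA n) B) (F n).1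
  have hg : ∀ n, IsH (A ⧸ (IsLocalRing.maximalIdeal A) ^ n) (g n) := fun n => isH_push _ (F n).2
  have hgc : ∀ n, push (qm (trA n) B) (g (n + 1)) = g n := fun n => by
    show push _ (push _ _) = push _ _
    rw [← hF n]
  obtain ⟨f, hf⟩ := exists_pts (C := B) g hgc
  refine ⟨f, isMonHom_of_mul f (pts_ext (C := B ⊗[A] B) fun n => ?_), hres f ?_⟩
  · have e : ∀ φ : B →ₐ[A] B ⊗[A] B,
        push (Algebra.TensorProduct.includeRight : B ⊗[A] B →ₐ[A] (A ⧸ (IsLocalRing.maximalIdeal A) ^ n) ⊗[A] (B ⊗[A] B)) (push φ f) =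
          push (sm (A ⧸ (IsLocalRing.maximalIdeal A) ^ n) φ) (g n) := fun φ => by
      rw [← hf n, push_push, push_push]
      exact push_congr (AlgHom.ext fun b => rfl) f
    rw [map_mul, e, e, e]
    exact hg n
  · have e : (qm π₁ B).comp (Algebra.TensorProduct.includeRight : B →ₐ[A] (A ⧸ (IsLocalRing.maximalIdeal A) ^ 1) ⊗[A] B) =
        Algebra.TensorProduct.includeRight := AlgHom.ext fun b => by simp
    rw [← e, ← push_push, hf 1, ← hc₁e]
    show push _ (push (qm (trA 1) B) (F 1).1) = _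
    rw [show push (qm (trA 1) B) (F 1).1 = (F 0).1 from hF 0]
    rfl

/-- Homomorphisms equal on the closed fibre are conjugate. -/
theorem exists_conj [Smooth G.hom] (hM : TrivAct.HasSplitCovers M) (u v : M ⟶ G) [IsMonHom u] [IsMonHom v]
    (h0 : (Over.pullback (bq A (A ⧸ (IsLocalRing.maximalIdeal A)))).map u = (Over.pullback (bq A (A ⧸ (IsLocalRing.maximalIdeal A)))).map v) :
    ∃ g : 𝟙_ (Over (Spec (CommRingCat.of A))) ⟶ G,
      toUnit (Over.mk (bq A (A ⧸ (IsLocalRing.maximalIdeal A)))) ≫ g = 1 ∧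
      ∀ (X : Over (Spec (CommRingCat.of A))) (x : X ⟶ M),
        x ≫ v = (toUnit X ≫ g) * (x ≫ u) * (toUnit X ≫ g)⁻¹ := by
  let act := FixedSmooth.conjAct u v
  have hbase : FixedSmooth.IsFixed act (1 : Over.mk (bq A (A ⧸ (IsLocalRing.maximalIdeal A) ^ 1)) ⟶ G) := fun X' s h => by
    rw [MonObj.comp_one, FixedSmooth.fixed_iff, _root_.one_mul, inv_one, _root_.mul_one]
    let e : A ⧸ (IsLocalRing.maximalIdeal A) →ₐ[A] A ⧸ (IsLocalRing.maximalIdeal A) ^ 1 := Ideal.Quotient.factorₐ A (by rw [pow_one])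
    let s' : X' ⟶ Over.mk (bq A (A ⧸ (IsLocalRing.maximalIdeal A))) := s ≫ tm e
    let Y : Over (Spec (CommRingCat.of (A ⧸ (IsLocalRing.maximalIdeal A)))) := Over.mk s'.left
    let io : (Over.map (bq A (A ⧸ (IsLocalRing.maximalIdeal A)))).obj Y ≅ X' := Over.isoMk (Iso.refl _) (by
      show 𝟙 _ ≫ X'.hom = s'.left ≫ bq A (A ⧸ (IsLocalRing.maximalIdeal A))
      rw [Category.id_comp]
      exact (Over.w s').symm)
    rw [← cancel_epi io.hom, ← Category.assoc io.hom h u, ← Category.assoc io.hom h v]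
    apply (FixedSmooth.adjEquiv (bq A (A ⧸ (IsLocalRing.maximalIdeal A))) G Y).injective
    rw [FixedSmooth.adjEquiv_comp (G := G) _ u, FixedSmooth.adjEquiv_comp (G := G) _ v, h0]
  have step : ∀ k (x : pt A (A ⧸ (IsLocalRing.maximalIdeal A) ^ (k + 1)) ⟶ G), FixedSmooth.IsFixed act x →
      ∃ y : pt A (A ⧸ (IsLocalRing.maximalIdeal A) ^ (k + 1 + 1)) ⟶ G, FixedSmooth.IsFixed act y ∧ tm (trA (k + 1)) ≫ y = x := by
    intro k x hx
    let N : Ideal (A ⧸ (IsLocalRing.maximalIdeal A) ^ (k + 1 + 1)) := RingHom.ker (trA (A := A) (k + 1))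
    let e := Ideal.quotientKerAlgEquivOfSurjective (trA_surjective (A := A) (k + 1))
    let q : Spec (CommRingCat.of (A ⧸ (IsLocalRing.maximalIdeal A) ^ (k + 1 + 1))) ⟶ Spec (CommRingCat.of A) := bq A _
    let j : Over.mk (Spec.map (AvgPoint.mkN (B := CommRingCat.of (A ⧸ (IsLocalRing.maximalIdeal A) ^ (k + 1 + 1))) N) ≫ q) ⟶ pt A (A ⧸ (IsLocalRing.maximalIdeal A) ^ (k + 1)) :=
      Over.homMk (Spec.map (CommRingCat.ofHom e.symm.toAlgHom.toRingHom)) (by
        show Spec.map _ ≫ Spec.map _ = Spec.map _ ≫ Spec.map _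
        rw [← Spec.map_comp, ← Spec.map_comp]
        congr 1
        exact CommRingCat.hom_ext (RingHom.ext fun a => e.symm.commutes a))
    obtain ⟨y, hy, hye⟩ := AvgPoint.exists_fixed_lift_smooth (R := CommRingCat.of A) hM act
      (FixedSmooth.conjAct_act u v) 1 (CommRingCat.of (A ⧸ (IsLocalRing.maximalIdeal A) ^ (k + 1 + 1))) q N (ker_trA_sq k) (j ≫ x)
      (AvgPoint.isFixed_comp hx j)
    refine ⟨y, hy, ?_⟩
    have h1 : Spec.map (AvgPoint.mkN (B := CommRingCat.of (A ⧸ (IsLocalRing.maximalIdeal A) ^ (k + 1 + 1))) N) ≫ y.left = j.left ≫ x.left :=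
      congrArg CommaMorphism.left hye
    apply Over.OverMorphism.ext
    have e1 : CommRingCat.ofHom (trA (A := A) (k + 1)).toRingHom =
        AvgPoint.mkN (B := CommRingCat.of (A ⧸ (IsLocalRing.maximalIdeal A) ^ (k + 1 + 1))) N ≫ CommRingCat.ofHom e.toAlgHom.toRingHom :=
      CommRingCat.hom_ext (RingHom.ext fun a => rfl)
    show Spec.map _ ≫ y.left = x.left
    rw [e1, Spec.map_comp, Category.assoc, h1]
    show Spec.map _ ≫ Spec.map _ ≫ x.left = _
    rw [← Category.assoc, ← Spec.map_comp, show CommRingCat.ofHom e.symm.toAlgHom.toRingHom ≫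
      CommRingCat.ofHom e.toAlgHom.toRingHom = 𝟙 _ from CommRingCat.hom_ext (RingHom.ext fun a => e.apply_symm_apply a),
      Spec.map_id, Category.id_comp]
  choose nx hnx hnxe using step
  let F : ∀ k, {x : pt A (A ⧸ (IsLocalRing.maximalIdeal A) ^ (k + 1)) ⟶ G // FixedSmooth.IsFixed act x} :=
    fun k => Nat.rec ⟨(1 : Over.mk (bq A (A ⧸ (IsLocalRing.maximalIdeal A) ^ 1)) ⟶ G), hbase⟩ (fun j p => ⟨nx j p.1 p.2, hnx j p.1 p.2⟩) k
  have hF : ∀ k, tm (trA (k + 1)) ≫ (F (k + 1)).1 = (F k).1 := fun k => hnxe k _ _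
  let w : ∀ n, pt A (A ⧸ (IsLocalRing.maximalIdeal A) ^ n) ⟶ G := fun n => tm (trA n) ≫ (F n).1
  have hw : ∀ n, tr (IsLocalRing.maximalIdeal A) n ≫ (w (n + 1)).left = (w n).left := fun n => by
    have e : tm (trA n) ≫ w (n + 1) = w n := by
      show tm (trA n) ≫ tm (trA (n + 1)) ≫ (F (n + 1)).1 = tm (trA n) ≫ (F n).1
      rw [hF]
    exact congrArg CommaMorphism.left e
  obtain ⟨z, hz⟩ := local_hom_lift (B := A) (I := (IsLocalRing.maximalIdeal A)) le_rfl (fun n => (w n).left) hw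
  have hzw : z ≫ G.hom = 𝟙 _ := local_hom_ext (B := A) (I := (IsLocalRing.maximalIdeal A)) le_rfl _ _ fun n => by
    rw [reassoc_of% (hz n), Over.w (w n), Category.comp_id]
    rfl
  let g : 𝟙_ (Over (Spec (CommRingCat.of A))) ⟶ G := Over.homMk z hzw
  have hg : ∀ n, toUnit (pt A (A ⧸ (IsLocalRing.maximalIdeal A) ^ n)) ≫ g = w n := fun n => Over.OverMorphism.ext (hz n)
  refine ⟨g, ?_, ?_⟩
  · let e : A ⧸ (IsLocalRing.maximalIdeal A) ^ 1 →ₐ[A] A ⧸ (IsLocalRing.maximalIdeal A) := Ideal.Quotient.factorₐ A (Ideal.pow_le_self one_ne_zero)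
    rw [show toUnit (Over.mk (bq A (A ⧸ (IsLocalRing.maximalIdeal A)))) = tm e ≫ toUnit (pt A (A ⧸ (IsLocalRing.maximalIdeal A) ^ 1)) from toUnit_unique _ _,
      Category.assoc, hg]
    show tm e ≫ tm (trA 1) ≫ (F 1).1 = 1
    rw [show tm (trA 1) ≫ (F 1).1 = (F 0).1 from hF 0]
    exact MonObj.comp_one _
  let u' : M ⟶ G := (toUnit M ≫ g) * u * (toUnit M ≫ g)⁻¹
  have key : v = u' := by
    refine pts_ext (C := B) fun n => ?_
    show tm _ ≫ v = tm _ ≫ u'
    let y : pt A ((A ⧸ (IsLocalRing.maximalIdeal A) ^ n) ⊗[A] B) ⟶ M := tm (Algebra.TensorProduct.includeRight)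
    let s : pt A ((A ⧸ (IsLocalRing.maximalIdeal A) ^ n) ⊗[A] B) ⟶ pt A (A ⧸ (IsLocalRing.maximalIdeal A) ^ n) :=
      tm (Algebra.TensorProduct.includeLeft : A ⧸ (IsLocalRing.maximalIdeal A) ^ n →ₐ[A] (A ⧸ (IsLocalRing.maximalIdeal A) ^ n) ⊗[A] B)
    have hs : toUnit _ ≫ g = s ≫ w n := by rw [← hg, comp_toUnit_assoc]
    have hfx := (FixedSmooth.fixed_iff u v y _).1
      ((AvgPoint.isFixed_comp (F n).2 (tm (trA n))) _ s y)
    show y ≫ v = y ≫ u'
    rw [← hfx]
    simp only [u', MonObj.comp_mul, GrpObj.comp_inv, comp_toUnit_assoc, hs]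
    rfl
  intro X x
  rw [key]
  simp only [u', MonObj.comp_mul, GrpObj.comp_inv, comp_toUnit_assoc]

end Groth.Agent.FormalHomLib
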